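import Cfsg.Agent.H178.RG.Defs

/-!
# S5714, TEAM RG, task 4545 (helper775, for helper178): first moments for the unitary groups

* `isForm_herm` : the standard hermitian form is a form in the sense of `IsForm`;
* `fms_gu_of`   : `FMS q` for the general unitary group, from `fm_form` (with the Witt property), `dual_charpoly`, `symSeq_of`
  and `card_symSeq` (the other tasks of TEAM RG).
-/

set_option autoImplicit false
set_option linter.unusedSectionVars false

namespace Cfsg.Agent.H775.RG

open Cfsg Cfsg.Agent.H178.RG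
open Polynomial

section

variable {F : Type} [Field F] [Fintype F]

theorem add_pow_q {q : ℕ} (hF : Fintype.card F = q ^ 2) (a b : F) : (a + b) ^ q = a ^ q + b ^ q := by
  obtain ⟨n, hp, hn⟩ := FiniteField.card F (ringChar F)
  haveI := Fact.mk hp
  have h1 : q ∣ ringChar F ^ (n : ℕ) := by
    rw [← hn, hF, pow_two]
    exact Dvd.intro _ rfl
  obtain ⟨k, -, rfl⟩ := (Nat.dvd_prime_pow hp).1 h1
  haveI := ringChar.charP F
  exact add_pow_char_pow _ _ _ _

theorem pow_q_q {q : ℕ} (hF : Fintype.card F = q ^ 2) (a : F) : (a ^ q) ^ q = a := by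
  rw [← pow_mul, ← pow_two, ← hF, FiniteField.pow_card]

theorem two_le_q {q : ℕ} (hF : Fintype.card F = q ^ 2) : 2 ≤ q := by
  have h : 1 < Fintype.card F := Fintype.one_lt_card
  rw [hF] at h
  by_contra hlt
  have : q = 0 ∨ q = 1 := by omega
  rcases this with rfl | rfl <;> simp at h

theorem q_ne_zero {q : ℕ} (hF : Fintype.card F = q ^ 2) : q ≠ 0 := by
  have := two_le_q hF
  omega

theorem hermForm_symm {n q : ℕ} (hF : Fintype.card F = q ^ 2) (x y : Fin n → F) :
    hermForm n F q y x = hermForm n F q x y ^ q := by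
  let φ : F →+ F := ⟨⟨fun a => a ^ q, zero_pow (q_ne_zero hF)⟩, add_pow_q hF⟩
  have hφ : ∀ a, φ a = a ^ q := fun _ => rfl
  unfold hermForm
  rw [← hφ, map_sum]
  refine Finset.sum_congr rfl fun i _ => ?_
  rw [hφ, mul_pow, pow_q_q hF, mul_comm]

/-- the standard hermitian form -/
theorem isForm_herm (n : ℕ) {q : ℕ} (hF : Fintype.card F = q ^ 2) : IsForm q (1 : F) (hermForm n F q) where
  hs := Or.inr hF.symm
  add_left u v w := by
    simp only [hermForm, Pi.add_apply, add_mul, Finset.sum_add_distrib]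
  smul_left a v w := by
    simp only [hermForm, Pi.smul_apply, smul_eq_mul, Finset.mul_sum, mul_assoc]
  symm v w := by
    rw [one_mul]
    exact hermForm_symm hF v w
  nondeg x h := by
    ext i
    have h2 : hermForm n F q x (Pi.single i 1) = x i := by
      unfold hermForm
      rw [Finset.sum_eq_single i]
      · simp
      · intro j _ hj
        rw [Pi.single_eq_of_ne hj, zero_pow (q_ne_zero hF), mul_zero]
      · intro h
        exact absurd (Finset.mem_univ _) h
    rw [← h2]
    exact h _

/-- `FM` is monotone -/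
theorem fm_mono {ι : Type} [Fintype ι] [DecidableEq ι] {G : Type} [Group G] {ρ : G →* Matrix ι ι F} {f : F[X]}
    {c d : ℝ} (h : FM ρ f c) (hcd : c ≤ d) : FM ρ f d :=
  le_trans h (mul_le_mul_of_nonneg_right hcd (Nat.cast_nonneg _))

/-- **First moments for the unitary groups**, from the other tasks -/
theorem fms_gu_of (n q : ℕ) (hF : Fintype.card F = q ^ 2)
    (hFM : ∀ (f : F[X]) (S : Set ((ℤ → F) × F)), S.Finite →
      (∀ (x : GU n F q) (v : Fin n → F), Ann (((Units.coeHom (Matrix (Fin n) (Fin n) F)).comp (GU n F q).subtype) x) v f →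
        ((fun i : ℤ => hermForm n F q ((((Units.coeHom (Matrix (Fin n) (Fin n) F)).comp (GU n F q).subtype)
          (x ^ i)).mulVec v) v), (0 : F)) ∈ S) →
      FM ((Units.coeHom (Matrix (Fin n) (Fin n) F)).comp (GU n F q).subtype) f S.ncard)
    (hSym : ∀ {f : F[X]} {x : GU n F q} {v : Fin n → F},
      Ann (((Units.coeHom (Matrix (Fin n) (Fin n) F)).comp (GU n F q).subtype) x) v f →
      (fun i : ℤ => hermForm n F q ((((Units.coeHom (Matrix (Fin n) (Fin n) F)).comp (GU n F q).subtype)
        (x ^ i)).mulVec v) v) ∈ SymSeq q (1 : F) f)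
    (hDual : ∀ x : GU n F q, dualP q (((Units.coeHom (Matrix (Fin n) (Fin n) F)).comp (GU n F q).subtype) x).charpoly =
      (((Units.coeHom (Matrix (Fin n) (Fin n) F)).comp (GU n F q).subtype) x).charpoly)
    (hCard : ∀ {f : F[X]}, f.Monic → f.coeff 0 ≠ 0 → ∀ {e : ℕ},
      (∀ g : F[X], g ∣ f → g ∣ dualP q f → g.natDegree ≤ e) →
      (SymSeq q (1 : F) f).Finite ∧ ((SymSeq q (1 : F) f).ncard : ℝ) ≤ √(Fintype.card F) ^ e) :
    FMS q ((Units.coeHom (Matrix (Fin n) (Fin n) F)).comp (GU n F q).subtype) where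
  hs := Or.inr hF.symm
  gen f hf h0 _ e he := by
    obtain ⟨hfin, hle⟩ := hCard hf h0 (he (q_ne_zero hF))
    refine fm_mono (hFM f (SymSeq q (1 : F) f ×ˢ {0}) (hfin.prod (Set.finite_singleton _)) ?_) ?_
    · intro x v hx
      exact ⟨hSym hx, rfl⟩
    · rw [Set.ncard_prod, Set.ncard_singleton, mul_one]
      exact hle
  all h1 := by
    have := two_le_q hF
    omega
  dual _ := hDual

/-- `ρ x` preserves the form -/
theorem herm_inv (n q : ℕ) (g : GU n F q) (v w : Fin n → F) :
    hermForm n F q ((((Units.coeHom (Matrix (Fin n) (Fin n) F)).comp (GU n F q).subtype) g).mulVec v)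
      ((((Units.coeHom (Matrix (Fin n) (Fin n) F)).comp (GU n F q).subtype) g).mulVec w) = hermForm n F q v w :=
  g.2 v w

end

end Cfsg.Agent.H775.RG
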